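import Groth.Agent.S0549
import Groth.Agent.AdicLim.Noetherian
import Mathlib

/-! Finite separable extensions of a completed discretely valued field come from the field itself. -/

set_option autoImplicit false

universe u

open Polynomial
open scoped TensorProduct

namespace Groth.Agent.KrasnerLift

/-- Newton iteration in an adically complete ring. -/
theorem exists_root {B : Type u} [CommRing B] (t : B) [IsAdicComplete (Ideal.span {t}) B] (g b : B[X])
    (d y₀ u s : B) (hu : IsUnit u) (hd : b.eval y₀ * g.derivative.eval y₀ = d * u)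
    (hg : g.eval y₀ = d ^ 2 * t * s) : ∃ y, g.eval y = 0 := by
  classical
  have ht : t ∈ (⊥ : Ideal B).jacobson :=
    IsAdicComplete.le_jacobson_bot (Ideal.span {t}) (Ideal.mem_span_singleton_self t)
  let P : ℕ → B → Prop := fun n y => ∃ w r, y = y₀ + d * t * w ∧ g.eval y = d ^ 2 * t ^ (n + 1) * r
  have step : ∀ n y, P n y → ∃ y', P (n + 1) y' ∧ ∃ c, y' - y = t ^ n * c := by
    rintro n y ⟨w, r, hy, hgy⟩
    obtain ⟨q, hq⟩ := (b * g.derivative).sub_dvd_eval_sub y y₀
    rw [eval_mul, eval_mul, hd, show y - y₀ = d * t * w by rw [hy]; ring] at hq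
    have hbu : b.eval y * g.derivative.eval y = d * (u + t * (w * q)) := by linear_combination hq
    obtain ⟨v, hv⟩ : IsUnit (u + t * (w * q)) := by
      obtain ⟨u', rfl⟩ := hu
      have h := Ideal.mem_jacobson_bot.1 ht ((↑u'⁻¹ : B) * (w * q))
      rw [show (u' : B) + t * (w * q) = u' * (t * ((↑u'⁻¹ : B) * (w * q)) + 1) by
        linear_combination (-(t * (w * q))) * u'.mul_inv]
      exact u'.isUnit.mul h
    let Δ : B := -(d * t ^ (n + 1) * r * b.eval y * (↑v⁻¹ : B))
    obtain ⟨k, hk⟩ := g.binomExpansion y Δ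
    refine ⟨y + Δ, ⟨w - t ^ n * r * b.eval y * (↑v⁻¹ : B),
      k * t ^ n * (r * b.eval y * (↑v⁻¹ : B)) ^ 2, by simp only [Δ]; rw [hy]; ring, ?_⟩,
      -(d * t * r * b.eval y * (↑v⁻¹ : B)), by simp only [Δ]; ring⟩
    have hΔ : g.derivative.eval y * Δ = -g.eval y := by
      simp only [Δ]
      rw [hgy]
      linear_combination (-(d * t ^ (n + 1) * r * (↑v⁻¹ : B))) * hbu +
        (d ^ 2 * t ^ (n + 1) * r * (↑v⁻¹ : B)) * hv - (d ^ 2 * t ^ (n + 1) * r) * v.inv_mul
    rw [hk, hΔ]
    simp only [Δ]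
    ring
  choose F hF hF' using step
  let seq : (n : ℕ) → {y : B // P n y} := fun n =>
    Nat.rec ⟨y₀, 0, s, by ring, by rw [hg]; simp⟩ (fun n y => ⟨F n y.1 y.2, hF n y.1 y.2⟩) n
  have hsucc : ∀ n, ∃ c, (seq (n + 1)).1 - (seq n).1 = t ^ n * c := fun n => hF' n _ _
  have hcauchy : ∀ m n, m ≤ n → ∃ c, (seq n).1 - (seq m).1 = t ^ m * c := by
    intro m n hmn
    induction hmn with
    | refl => exact ⟨0, by ring⟩
    | @step n hmn ih =>
      obtain ⟨c, hc⟩ := ih
      obtain ⟨c', hc'⟩ := hsucc n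
      obtain ⟨e, rfl⟩ := Nat.exists_eq_add_of_le hmn
      exact ⟨c + t ^ e * c', by
        rw [Nat.succ_eq_add_one] at *
        linear_combination hc + hc'⟩
  obtain ⟨y, hy⟩ := IsPrecomplete.prec (I := Ideal.span {t}) (M := B) inferInstance (f := fun n => (seq n).1)
    (fun {m n} hmn => by
      rw [SModEq.sub_mem, smul_eq_mul, Ideal.mul_top, Ideal.span_singleton_pow, Ideal.mem_span_singleton]
      obtain ⟨c, hc⟩ := hcauchy m n hmn
      exact ⟨-c, by linear_combination -hc⟩)
  refine ⟨y, IsHausdorff.haus (I := Ideal.span {t}) inferInstance _ fun n => ?_⟩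
  have h := hy n
  rw [SModEq.sub_mem, smul_eq_mul, Ideal.mul_top, Ideal.span_singleton_pow, Ideal.mem_span_singleton] at h
  rw [SModEq.zero, smul_eq_mul, Ideal.mul_top, Ideal.span_singleton_pow, Ideal.mem_span_singleton]
  obtain ⟨q, hq⟩ := g.sub_dvd_eval_sub (seq n).1 y
  obtain ⟨w, r, -, hgs⟩ := (seq n).2
  have h2 : g.eval y = g.eval (seq n).1 - ((seq n).1 - y) * q := by linear_combination -hq
  rw [h2, hgs]
  exact dvd_sub (Dvd.intro (d ^ 2 * t * r) (by ring)) (dvd_mul_of_dvd_left h q)

variable {C : Type u} [CommRing C] [IsNoetherianRing C] {M : Type u} [CommRing M] [Algebra C M]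

/-- A root near an approximate root, in the algebra generated by the latter. -/
theorem exists_root_adjoin (t : C) [IsAdicComplete (Ideal.span {t}) C] (x : M) (hx : IsIntegral C x)
    (g b : C[X]) (s u : C[X]) (c : C)
    (hb : aeval x (b * g.derivative) = algebraMap C M c * (1 + algebraMap C M t * aeval x u))
    (hg : aeval x g = algebraMap C M c ^ 2 * algebraMap C M t * aeval x s) :
    ∃ y ∈ Algebra.adjoin C ({x} : Set M), aeval y g = 0 := by
  let S := Algebra.adjoin C ({x} : Set M)
  haveI : Module.Finite C S := Module.Finite.iff_fg.2 hx.fg_adjoin_singleton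
  haveI : IsAdicComplete ((Ideal.span {t}).map (algebraMap C S)) S :=
    (IsAdicComplete.map_algebraMap_iff _ _).2 (AdicLim.isAdicComplete_of_finite (Ideal.span {t}) S)
  haveI : IsAdicComplete (Ideal.span {algebraMap C S t}) S := by
    rwa [← Set.image_singleton, ← Ideal.map_span]
  let y₀ : S := ⟨x, Algebra.self_mem_adjoin_singleton C x⟩
  have hval : ∀ p : C[X], (((p.map (algebraMap C S)).eval y₀ : S) : M) = aeval x p := fun p => by
    rw [eval_map_algebraMap, ← Subalgebra.coe_val, ← aeval_algHom_apply]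
    rfl
  have hunit : IsUnit (1 + algebraMap C S t * (u.map (algebraMap C S)).eval y₀) := by
    have h := Ideal.mem_jacobson_bot.1 (IsAdicComplete.le_jacobson_bot (Ideal.span {algebraMap C S t})
      (Ideal.mem_span_singleton_self _)) ((u.map (algebraMap C S)).eval y₀)
    rwa [add_comm]
  obtain ⟨y, hy⟩ := exists_root (algebraMap C S t) (g.map (algebraMap C S)) (b.map (algebraMap C S))
    (algebraMap C S c) y₀ _ ((s.map (algebraMap C S)).eval y₀) hunit
    (Subtype.ext (by
      rw [derivative_map, ← eval_mul, ← Polynomial.map_mul, hval, hb]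
      simp only [MulMemClass.coe_mul, SubmonoidClass.coe_pow, AddMemClass.coe_add, OneMemClass.coe_one,
        Subalgebra.coe_algebraMap, hval]))
    (Subtype.ext (by
      rw [hval, hg]
      simp only [MulMemClass.coe_mul, SubmonoidClass.coe_pow, AddMemClass.coe_add, OneMemClass.coe_one,
        Subalgebra.coe_algebraMap, hval]))
  refine ⟨y, y.2, ?_⟩
  rw [eval_map_algebraMap] at hy
  rw [← Subalgebra.coe_val, aeval_algHom_apply, hy, map_zero]

end Groth.Agent.KrasnerLift
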